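import Cfsg.Agent.Lib.Lie.Flag

/-!
Symplectic and unitary groups in the defining characteristic: Eichler transformations, unipotent
radicals of parabolic subgroups.
-/

set_option autoImplicit false
set_option linter.unusedSectionVars false

namespace Cfsg.Agent.Lie

open Cfsg.Agent.Fus Module

variable {K V H : Type*} [Field K] [AddCommGroup V] [Module K V] [Group H] [Finite H] {n : ℕ}
  {b : Basis (Fin n) K V} {φ : H →* Module.End K V} {p : ℕ} [Fact p.Prime] [CharP K p]
  {σ : K →+* K} {B : V →ₗ[K] V →ₛₗ[σ] K}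

variable (φ B) in
/-- `h` acts as an Eichler transformation. -/
structure IsRho (e w : V) (c : K) (h : H) : Prop where
  he : B e e = 0
  hw : B w e = 0
  hc : c - σ c = B w w
  act : ∀ x, φ h x = x + B x e • w + (B x w + c * B x e) • e

variable (b φ B) in
/-- `H` acts as the special isometry group of a skew-hermitian form with hyperbolic basis `b`. -/
structure FormData : Prop where
  inj : Function.Injective φ
  invol : ∀ x, σ (σ x) = x
  skew : ∀ x y, B y x = -σ (B x y)
  orth : ∀ i j, j ≠ i.rev → B (b i) (b j) = 0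
  nondeg : ∀ i, B (b i) (b i.rev) ≠ 0
  val : ∀ w, ∃ c, c - σ c = B w w
  isom : ∀ h x y, B (φ h x) (φ h y) = B x y
  rho : ∀ e w c, B e e = 0 → B w e = 0 → c - σ c = B w w → ∃ h, IsRho φ B e w c h
  det : ∀ h, LinearMap.det (φ h) = 1
  norm : ∀ i : Fin n, i.rev = i → ∀ a, σ a = a → ∃ r, r * σ r = a

theorem IsRho.fix {e w : V} {c : K} {h : H} (hh : IsRho φ B e w c h) {x : V} (h1 : B x e = 0)
    (h2 : B x w = 0) : φ h x = x := by simp [hh.act, h1, h2]

theorem IsRho.of_smul_self {e : V} {s c : K} {h : H} (hσ : ∀ x, σ (σ x) = x)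
    (hh : IsRho φ B e (s • e) c h) : IsRho φ B e 0 (s + σ s + c) h :=
  ⟨hh.he, by simp, by
    have := hh.hc
    simp only [map_smulₛₗ, LinearMap.smul_apply, hh.he, smul_zero] at this
    simp only [map_add, hσ, map_zero]
    linear_combination this, fun x => by
    simp only [hh.act, map_smulₛₗ, smul_eq_mul, map_zero]
    module⟩

theorem IsRho.of_smul {e w : V} {t c : K} {h : H} (hσ : ∀ x, σ (σ x) = x)
    (hh : IsRho φ B (t • e) w c h) (ht : t ≠ 0) : IsRho φ B e (σ t • w) (t * σ t * c) h := by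
  have h0 : σ t ≠ 0 := by simpa using ht
  refine ⟨by simpa [ht] using hh.he, by simpa [ht] using hh.hw, ?_, fun x => ?_⟩
  · simp only [map_mul, hσ, map_smulₛₗ, LinearMap.smul_apply, smul_eq_mul, ← hh.hc,
      RingHom.id_apply]
    ring
  · simp only [hh.act, map_smulₛₗ, smul_eq_mul, hσ]
    module

variable (b φ) in
/-- The unipotent radical of the stabilizer of a totally isotropic subspace. -/
def QF (l : ℕ) : Subgroup H := toSub
  { carrier := {h | (∀ v ∈ F b l, φ h v = v) ∧ ∀ v ∈ F b (n - l), φ h v - v ∈ F b l}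
    mul_mem' := fun {x y} hx hy => ⟨fun v hv => by rw [act_mul, hy.1 v hv, hx.1 v hv],
      fun v hv => by
        have := add_mem (hy.2 v hv) (hx.2 v hv)
        rw [← hx.1 _ (hy.2 v hv), map_sub, sub_add_sub_cancel] at this
        rwa [act_mul]⟩
    one_mem' := by simp }

theorem exists_sq_sub_sq [Finite K] {a : K} (ha : σ a = a) :
    ∃ x y, σ x = x ∧ σ y = y ∧ a = x * x - y * y := by
  by_cases h2 : (2 : K) = 0
  · have h3 : ∀ x y : K, x * x = y * y → x = y := fun x y h =>
      sub_eq_zero.1 (mul_self_eq_zero.1 (by linear_combination h + (y * y - x * y) * h2))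
    obtain ⟨x, hx⟩ := Finite.surjective_of_injective (f := fun x : K => x * x) h3 a
    exact ⟨x, 0, h3 _ _ (by rw [← map_mul, show x * x = a from hx, ha]), map_zero σ, by
      simpa using hx.symm⟩
  · refine ⟨(a + 1) / 2, (a - 1) / 2, by simp [ha, map_ofNat], by simp [ha, map_ofNat], ?_⟩
    field_simp
    ring

namespace FormData

variable (D : FormData b φ B)
include D

theorem symm {x y : V} (h : B x y = 0) : B y x = 0 := by rw [D.skew, h, map_zero, neg_zero]

theorem nondeg' (i : Fin n) : B (b i.rev) (b i) ≠ 0 := by simpa using D.nondeg i.rev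

theorem iso {i : Fin n} (h : i ≠ i.rev) : B (b i) (b i) = 0 := D.orth i i h

theorem apply_basis (v : V) (i : Fin n) : B v (b i) = b.repr v i.rev * B (b i.rev) (b i) := by
  conv_lhs => rw [← b.sum_repr v]
  rw [map_sum, LinearMap.sum_apply, Finset.sum_eq_single i.rev (fun j _ hj => by
    rw [map_smul, LinearMap.smul_apply, D.orth j i fun e => hj (by simp [e]), smul_zero])
    (by simp)]
  simp

theorem mem_F_of_orth {v : V} {l : ℕ} (h : ∀ i : Fin n, l + i < n → B v (b i) = 0) :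
    v ∈ F b l := fun j hj => by
  have := h j.rev (by have := j.2; rw [Fin.val_rev]; omega)
  rw [D.apply_basis, Fin.rev_rev] at this
  exact (mul_eq_zero.1 this).resolve_right (D.nondeg j)

theorem orth_of_mem_F {v w : V} {l k : ℕ} (hv : v ∈ F b l) (hw : w ∈ F b k) (h : l + k ≤ n) :
    B v w = 0 :=
  map_mem_of_basis (f := LinearMap.id) (W := LinearMap.ker (B.flip w)) (fun i hi =>
    show B (b i) w = 0 from D.symm (by
      rw [D.apply_basis, hw i.rev (by rw [Fin.val_rev]; omega), zero_mul])) hv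

theorem isom_inv (h : H) (x y : V) : B (φ h x) y = B x (φ h⁻¹ y) := by
  rw [← D.isom h x, act_inv']

theorem stab_perp {g : H} {k l : ℕ} (hg : g ∈ stab φ (F b k)) (h : l + k = n) :
    g ∈ stab φ (F b l) := fun v hv => D.mem_F_of_orth fun i hi => by
  rw [D.isom_inv]
  exact D.orth_of_mem_F hv (inv_mem hg _ (basis_mem_F (by omega))) h.le

theorem mem_Bor_of_half {g : H} (h : ∀ i : Fin n, 2 * i + 1 < n → φ g (b i) ∈ F b (i + 1)) :
    g ∈ Bor b φ := by
  have h1 : ∀ k, 2 * k ≤ n → g ∈ stab φ (F b k) := fun k hk =>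
    mem_stab_F fun i hi => F_mono hi (h i (by omega))
  refine mem_Bor.2 fun k => ?_
  by_cases hk : 2 * k ≤ n
  · exact h1 k hk
  by_cases hk' : n ≤ k
  · exact fun v _ => mem_F_top hk' _
  exact D.stab_perp (h1 (n - k) (by omega)) (by omega)

theorem dg_mul_rev {g : H} (hg : g ∈ Bor b φ) (i : Fin n) :
    dg b φ g i * σ (dg b φ g i.rev) = 1 := by
  have h1 := sub_dg_mem hg i
  have h2 := sub_dg_mem hg i.rev
  have h3 : (i : ℕ) + (i.rev + 1) ≤ n := by have := i.2; rw [Fin.val_rev]; omega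
  have h4 := D.orth_of_mem_F h1 (mem_Bor.1 hg _ _ (basis_mem_F (Nat.lt_succ_self i.rev))) h3
  have h5 := D.orth_of_mem_F (basis_mem_F (Nat.lt_succ_self i)) h2 (by omega)
  simp only [map_sub, map_smulₛₗ, LinearMap.sub_apply, LinearMap.smul_apply, smul_eq_mul,
    D.isom, RingHom.id_apply] at h4 h5
  refine mul_right_cancel₀ (D.nondeg i) ?_
  linear_combination -h4 - dg b φ g i * h5

theorem dg_of_rev {g : H} (hg : g ∈ Bor b φ) {i : Fin n} (h : dg b φ g i.rev = 1) :
    dg b φ g i = 1 := by simpa [h] using D.dg_mul_rev hg i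

section

variable {e w w' : V} {c c' : K} {h h' : H}

theorem rho_pow (hh : IsRho φ B e w c h) : h ^ p ^ 3 = 1 := by
  refine D.inj ?_
  rw [map_pow, map_one]
  exact pow_eq_one_of_nilpotent (LinearMap.ext fun v => by
    simp [pow_succ, hh.act, hh.he, hh.hw, D.symm hh.hw])

theorem rho_conj (hh : IsRho φ B e w c h) (g : H) :
    IsRho φ B (φ g e) (φ g w) c (g * h * g⁻¹) :=
  ⟨by rw [D.isom, hh.he], by rw [D.isom, hh.hw], by rw [D.isom, hh.hc], fun x => by
    simp only [act_mul, hh.act, map_add, map_smul, act_inv', D.isom_inv, inv_inv]⟩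

theorem rho_mul (hh : IsRho φ B e w c h) (hh' : IsRho φ B e w' c' h') :
    IsRho φ B e (w + w') (c + c' + B w' w) (h * h') :=
  ⟨hh.he, by simp [hh.hw, hh'.hw], by
    simp only [map_add, LinearMap.add_apply, ← hh.hc, ← hh'.hc, D.skew w' w]
    ring, fun x => by
    simp only [act_mul, hh.act, hh'.act, map_add, map_smul, LinearMap.add_apply,
      LinearMap.smul_apply, smul_eq_mul, hh.he, hh'.hw, D.symm hh.hw]
    module⟩

theorem rho_unique (hh : IsRho φ B e w c h) (hh' : IsRho φ B e w c h') : h = h' :=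
  D.inj (LinearMap.ext fun x => by rw [hh.act, hh'.act])

theorem rho_inv (hh : IsRho φ B e w c h) : IsRho φ B e (-w) (-c + B w w) h⁻¹ := by
  obtain ⟨h', h1⟩ := D.rho e (-w) (-c + B w w) hh.he (by simp [hh.hw]) (by
    simp only [← hh.hc, map_add, map_neg, map_sub, D.invol, LinearMap.neg_apply]
    ring)
  have h2 := D.rho_mul hh h1
  rwa [← eq_inv_of_mul_eq_one_right (D.rho_unique h2 (h' := 1) ⟨hh.he, h2.hw, h2.hc, by simp⟩)]

theorem rho_mem_Uni {k : Fin n} (hh : IsRho φ B (b k) w c h) (hk : 2 * k + 1 < n)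
    (hw : w ∈ F b k.rev) : h ∈ Uni b φ := mem_Uni_of fun i => by
  rw [hh.act, add_assoc, add_sub_cancel_left]
  have h1 := k.val_rev
  by_cases e : i = k.rev
  · exact e ▸ add_mem (Submodule.smul_mem _ _ hw) (Submodule.smul_mem _ _ (basis_mem_F (by omega)))
  rw [D.orth i k fun e' => e (by simp [e']), zero_smul, zero_add, mul_zero, add_zero]
  rcases lt_or_ge (k : ℕ) i with e | e
  · exact Submodule.smul_mem _ _ (basis_mem_F e)
  · simp [D.orth_of_mem_F (basis_mem_F (Nat.lt_succ_of_le e)) hw (by omega)]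

theorem rho_mem_QF (hh : IsRho φ B e w c h) {l : ℕ} (hl : 2 * l ≤ n) (he : e ∈ F b l)
    (hw : w ∈ F b (n - l)) : h ∈ QF b φ l :=
  ⟨fun v hv => hh.fix (D.orth_of_mem_F hv he (by omega)) (D.orth_of_mem_F hv hw (by omega)),
    fun v hv => by
      simpa [hh.act, D.orth_of_mem_F hv he (by omega)] using Submodule.smul_mem _ _ he⟩

end

theorem QF_le {l : ℕ} : QF b φ l ≤ Uni b φ := fun h hh => mem_Uni_of fun i => by
  rcases lt_or_ge (i : ℕ) l with e | e
  · simp [hh.1 _ (basis_mem_F e)]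
  rcases lt_or_ge (i : ℕ) (n - l) with e' | e'
  · exact F_mono e (hh.2 _ (basis_mem_F e'))
  refine D.mem_F_of_orth fun j hj => ?_
  rw [map_sub, LinearMap.sub_apply, sub_eq_zero, ← D.isom h (b i),
    hh.1 (b j) (basis_mem_F (by omega))]

theorem stab_le_normalizer_QF {l : ℕ} (hl : l ≤ n) :
    stab φ (F b l) ≤ Subgroup.normalizer (QF b φ l : Set H) := fun g hg =>
  mem_normalizer_of_conj_mem fun u hu => ⟨fun v hv => by
    rw [act_mul, act_mul, hu.1 _ (inv_mem hg v hv), act_inv'], fun v hv => by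
    have := hg _ (hu.2 _ (D.stab_perp (inv_mem hg) (by omega) v hv))
    rwa [map_sub, act_inv', ← act_mul, ← act_mul] at this⟩

theorem exists_tv {e : V} (he : B e e = 0) {a : K} (ha : σ a = a) : ∃ h, IsRho φ B e 0 a h :=
  D.rho e 0 a he (by simp) (by simp [ha])

theorem fix_of_comm {c r : H} {k : ℕ} (hk : c ^ p ^ k = 1) {i : Fin n}
    (hr : IsRho φ B (b i) 0 1 r) (h : c * r = r * c) : φ c (b i) = b i := by
  have := congrArg (fun g => φ g (b i.rev)) h
  simp only [act_mul, hr.act, map_add, map_smul, smul_zero, add_zero, map_zero, zero_add, one_mul,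
    add_right_inj] at this
  exact fix_of_eigen hk (t := (B (b i.rev) (b i))⁻¹ * B (φ c (b i.rev)) (b i)) (by
    rw [mul_smul, ← this, inv_smul_smul₀ (D.nondeg' i)])

theorem centric_QF {l : ℕ} (h0 : 0 < l) (hl : 2 * l ≤ n) (c : H) (hc : ∃ k, c ^ p ^ k = 1)
    (h : ∀ r ∈ QF b φ l, c * r = r * c) : c ∈ QF b φ l := by
  obtain ⟨k, hk⟩ := hc
  have h1 : ∀ i : Fin n, i < l → φ c (b i) = b i := fun i hi => by
    obtain ⟨r, hr⟩ := D.exists_tv (D.orth_of_mem_F (basis_mem_F hi) (basis_mem_F hi) (by omega))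
      (map_one σ)
    exact D.fix_of_comm hk hr (h r (D.rho_mem_QF hr hl (basis_mem_F hi) (zero_mem _)))
  refine ⟨fun v hv => sub_eq_zero.1 (map_mem_of_basis (f := φ c - 1) (W := ⊥)
    (fun i hi => sub_eq_zero.2 (h1 i hi)) hv), fun v hv => ?_⟩
  let o : Fin n := ⟨0, by omega⟩
  have ho : b o ∈ F b l := basis_mem_F h0
  obtain ⟨d, hd⟩ := D.val v
  obtain ⟨r, hr⟩ := D.rho (b o) v d (D.orth_of_mem_F ho ho (by omega))
    (D.orth_of_mem_F hv ho (by omega)) hd
  have h2 := congrArg (fun g => φ g (b o.rev)) (h r (D.rho_mem_QF hr hl ho hv))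
  have h3 : B (φ c (b o.rev)) (b o) = B (b o.rev) (b o) := by rw [← D.isom c (b o.rev), h1 o h0]
  simp only [act_mul, hr.act, map_add, map_smul, h1 o h0, h3] at h2
  have h4 : B (b o.rev) (b o) • (φ c v - v) =
      (B (φ c (b o.rev)) v - B (b o.rev) v) • b o := by
    linear_combination (norm := module) h2
  exact ((F b l).smul_mem_iff (D.nondeg' o)).1 (h4 ▸ Submodule.smul_mem _ _ ho)

theorem eq_one_of_mem_QF {o : Fin n} (ho : (o : ℕ) = 0) {h : H} (hh : h ∈ QF b φ 1)
    (hf : φ h (b o.rev) = b o.rev) : h = 1 := by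
  refine D.inj (b.ext fun i => ?_)
  rw [map_one, Module.End.one_apply]
  by_cases e : i = o.rev
  · rw [e, hf]
  refine sub_eq_zero.1 (eq_zero_of_mem_F (b := b) fun j _ => ?_)
  by_cases hj : j = o
  · have := D.apply_basis (φ h (b i) - b i) o.rev
    rw [Fin.rev_rev, map_sub, LinearMap.sub_apply, ← D.isom h (b i), hf, sub_self] at this
    exact hj ▸ (mul_eq_zero.1 this.symm).resolve_right (D.nondeg o)
  · refine hh.2 _ (basis_mem_F ?_) j ?_ <;> simp only [Fin.ext_iff, Fin.val_rev] at e hj <;> omega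

theorem center_eq_one (hn : 2 ≤ n) (z : H) (hz : z ∈ Subgroup.center H)
    (hk : ∃ k, z ^ p ^ k = 1) : z = 1 := by
  let o : Fin n := ⟨0, by omega⟩
  obtain ⟨r, hr⟩ := D.exists_tv (D.iso (i := o.rev) (by simp [o, Fin.ext_iff]; omega)) (map_one σ)
  exact D.eq_one_of_mem_QF (o := o) rfl (D.centric_QF one_pos hn z hk
    fun r _ => (Subgroup.mem_center_iff.1 hz r).symm)
    (D.fix_of_comm hk.choose_spec hr (Subgroup.mem_center_iff.1 hz r).symm)

theorem exists_rho_map {e f f' : V} (he : B e e = 0) (hf : B f e ≠ 0) (hf' : B f' e = B f e)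
    (h : B f' f' = B f f) :
    ∃ c g, IsRho φ B e ((B f e)⁻¹ • (f' - f)) c g ∧ φ g f = f' := by
  obtain ⟨u, rfl⟩ : ∃ u, f' = f + u := ⟨f' - f, by abel⟩
  have h0 : σ (B f e) ≠ 0 := by simpa using hf
  simp only [map_add, LinearMap.add_apply, D.skew f u, add_eq_left] at h hf'
  rw [add_sub_cancel_left]
  obtain ⟨g, hg⟩ := D.rho e ((B f e)⁻¹ • u) (-(B f u) / (B f e * σ (B f e))) he (by simp [hf'])
    (by
      simp only [map_div₀, map_neg, map_mul, D.invol, map_smulₛₗ, LinearMap.smul_apply,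
        smul_eq_mul, map_inv₀, RingHom.id_apply]
      field_simp
      linear_combination -h)
  refine ⟨_, g, hg, ?_⟩
  simp only [hg.act, map_smulₛₗ, smul_eq_mul, map_inv₀]
  match_scalars <;> field_simp
  ring

theorem exists_root {i j : Fin n} (hij : i ≠ j) (hi : 2 * i + 1 < n) (hj : 2 * j + 1 < n) (a : K) :
    ∃ h, h ^ p ^ 3 = 1 ∧ φ h (b i) = b i + a • b j ∧
      ∀ m : Fin n, m ≠ i → 2 * m + 1 < n → φ h (b m) = b m := by
  have h1 : ∀ m m' : Fin n, 2 * m + 1 < n → 2 * m' + 1 < n → B (b m) (b m') = 0 :=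
    fun m m' h h' => D.orth _ _ (by simp only [ne_eq, Fin.ext_iff, Fin.val_rev]; omega)
  obtain ⟨h, hh⟩ := D.rho (b j) (σ (a / B (b i) (b i.rev)) • b i.rev) 0 (h1 j j hj hj)
    (by simp [D.orth i.rev j (by simpa using hij.symm)])
    (by simp [D.iso (i := i.rev) (by simp only [ne_eq, Fin.ext_iff, Fin.val_rev]; omega)])
  refine ⟨h, D.rho_pow hh, ?_, fun m hm hm' => hh.fix (h1 _ _ hm' hj) ?_⟩
  · simp [hh.act, h1 i j hi hj, D.invol, D.nondeg i]
  · simp [D.orth m i.rev (by simpa using hm.symm)]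

theorem simple_roots (i j : Fin n) (h : (i : ℕ) + 1 = j) :
    ∃ u ∈ Uni b φ, b.repr (φ u (b j)) i ≠ 0 := by
  have hij : j ≠ i := by rintro rfl; omega
  have h1 := i.val_rev
  have h2 := j.val_rev
  have h3 := j.2
  by_cases hi : 2 * i + 1 < n
  · have he := D.iso (i := i) (by simp only [ne_eq, Fin.ext_iff]; omega)
    by_cases e : j = i.rev
    · obtain ⟨u, hu⟩ := D.exists_tv he (map_one σ)
      exact ⟨u, D.rho_mem_Uni hu hi (zero_mem _), by
        simpa [hu.act, hij] using e ▸ D.nondeg' i⟩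
    · obtain ⟨c, hc⟩ := D.val (b j.rev)
      obtain ⟨u, hu⟩ := D.rho (b i) (b j.rev) c he (D.orth _ _ (by simpa using hij.symm)) hc
      exact ⟨u, D.rho_mem_Uni hu hi (basis_mem_F (by omega)), by
        simpa [hu.act, hij, D.orth j i fun e' => e (by simp [e'])] using D.nondeg j⟩
  · obtain ⟨c, hc⟩ := D.val (b i)
    have h4 : j.rev ≠ i := by simp only [ne_eq, Fin.ext_iff]; omega
    obtain ⟨u, hu⟩ := D.rho (b j.rev) (b i) c
      (D.iso (by simp only [ne_eq, Fin.ext_iff, Fin.rev_rev]; omega))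
      (D.orth _ _ (by simpa using hij)) hc
    exact ⟨u, D.rho_mem_Uni hu (by omega) (basis_mem_F (by rw [Fin.rev_rev]; omega)), by
      simpa [hu.act, hij, h4] using D.nondeg j⟩

end FormData

end Cfsg.Agent.Lie
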