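import Cfsg.Agent.Lib.Lie.Form

/-!
The fusion systems of symplectic and unitary groups in the defining characteristic are simple.
-/

set_option autoImplicit false
set_option linter.unusedSectionVars false

namespace Cfsg.Agent.Lie

open Cfsg.Agent.Fus Module

variable {K V H : Type*} [Field K] [AddCommGroup V] [Module K V] [Group H] [Finite H] {n : ℕ}
  {b : Basis (Fin n) K V} {φ : H →* Module.End K V} {p : ℕ} [Fact p.Prime] [CharP K p]
  {σ : K →+* K} {B : V →ₗ[K] V →ₛₗ[σ] K}

namespace FormData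

variable (D : FormData b φ B)
include D

theorem exists_rank_one {X : Subgroup H} {W : Submodule K V}
    (hX : ∀ e ∈ W, ∀ w ∈ W, ∀ c h, IsRho φ B e w c h → h ∈ X) {e f d : V} (he : e ∈ W) (hf : f ∈ W)
    (hd : d ∈ W) (hee : B e e = 0) (hff : B f f = 0) (hef : B e f ≠ 0) (hde : B d e = 0)
    (hdf : B d f = 0) {t : K} (ht : t ≠ 0) (hdd : B d d = σ t - t) : ∃ g ∈ X, φ g e = t • e := by
  have h0 : σ (B e f) ≠ 0 := by simpa using hef
  let γ := σ (B e f)⁻¹
  have h1 : B (e + γ • f) (e + γ • f) = 0 := by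
    simp [γ, hee, hff, D.skew e f, D.invol, hef, h0]
  have h2 : B (t • e + d + γ • f) (t • e + d + γ • f) = 0 := by
    simp [γ, hee, hff, D.skew e f, D.invol, hef, h0, hde, hdf, D.symm hde, D.symm hdf, hdd,
      mul_left_comm (σ (B e f))⁻¹]
  obtain ⟨c₁, g₁, h3, h4⟩ := D.exists_rho_map hff hef (f' := e + γ • f) (by simp [hff])
    (by rw [h1, hee])
  obtain ⟨c₂, g₂, h5, h6⟩ := D.exists_rho_map hee (f := e + γ • f) (f' := t • e + d + γ • f)
    (by simp [γ, hee, D.skew e f, hef]) (by simp [hee, hde]) (by rw [h1, h2])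
  obtain ⟨c₃, g₃, h7, h8⟩ := D.exists_rho_map hff (f := t • e + d + γ • f) (f' := t • e)
    (by simp [hff, hdf, hef, ht]) (by simp [hff, hdf]) (by simp only [h2]; simp [hee])
  have h9 := add_mem he (W.smul_mem γ hf)
  have h10 := add_mem (add_mem (W.smul_mem t he) hd) (W.smul_mem γ hf)
  exact ⟨g₃ * (g₂ * g₁), mul_mem (hX _ hf _ (W.smul_mem _ (sub_mem (W.smul_mem t he) h10)) _ _ h7)
    (mul_mem (hX _ he _ (W.smul_mem _ (sub_mem h10 h9)) _ _ h5)
      (hX _ hf _ (W.smul_mem _ (sub_mem h9 he)) _ _ h3)), by rw [act_mul, act_mul, h4, h6, h8]⟩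

theorem good (hn : 4 ≤ n) {g : H} (hg : g ∈ Bor b φ) :
    Good p (Uni b φ) (Subgroup.center H) (Uni b φ) g := by
  have up : ∀ l, 0 < l → 2 * l ≤ n → ∀ x ∈ Bor b φ,
      Good p (Uni b φ) (Subgroup.center H) (QF b φ l) x →
      Good p (Uni b φ) (Subgroup.center H) (Uni b φ) x := fun l h0 hl x hx h =>
    Good.up D.QF_le le_rfl (centricMod_center (D.center_eq_one (by omega)) (D.centric_QF h0 hl))
      (Bor_le_normalizer hx) h
  have key : ∀ k ≤ n / 2, ∀ g ∈ Bor b φ, (∀ i : Fin n, i < k → dg b φ g i = 1) →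
      Good p (Uni b φ) (Subgroup.center H) (Uni b φ) g := fun k hk => by
    induction hk using Nat.decreasingInduction with
    | self =>
      intro g hg h
      have h1 : ∀ i : Fin n, i ≠ i.rev → dg b φ g i = 1 := fun i hi => by
        by_cases e : (i : ℕ) < n / 2
        · exact h i e
        · exact D.dg_of_rev hg (h _ (by
            have := i.2
            simp only [ne_eq, Fin.ext_iff, Fin.val_rev] at hi ⊢
            omega))
      have hu : g ∈ Uni b φ := mem_Uni_of_dg hg fun i => by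
        by_cases e : i = i.rev
        · rw [← D.det g, ← prod_dg hg, Finset.prod_eq_single i (fun j _ hj => h1 j (by
            simp only [ne_eq, Fin.ext_iff, Fin.val_rev] at hj e ⊢
            omega)) (by simp)]
        · exact h1 i e
      exact Good.of_mem (isPGroup_Uni D.inj) le_rfl hu (Subgroup.le_normalizer hu)
    | of_succ k hk ih =>
      intro g hg h
      let i : Fin n := ⟨k, by omega⟩
      let j : Fin n := ⟨k + 1, by omega⟩
      have hij : i ≠ j := by simp [i, j]
      have hi : 2 * i + 1 < n := by simp only [i]; omega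
      suffices ∃ x ∈ Bor b φ, Good p (Uni b φ) (Subgroup.center H) (Uni b φ) x ∧
          φ x (b i) = dg b φ g i • b i ∧ ∀ m : Fin n, m < k → φ x (b m) = b m by
        obtain ⟨x, hx, h1, h2, h3⟩ := this
        simpa using h1.mul (ih (x⁻¹ * g) (mul_mem (inv_mem hx) hg) fun m hm => by
          rw [dg_mul (inv_mem hx) hg, ← dg_inv_mul hx m]
          congr 1
          refine (dg_eq ?_).symm
          rcases (Nat.le_of_lt_succ hm).eq_or_lt with e | e
          · simp [show m = i from Fin.ext e, h2]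
          · simp [h3 m e, h m e])
      by_cases hj : 2 * j + 1 < n
      · let X := goodSubgroup p (Uni b φ) (Subgroup.center H) (D.QF_le (l := k + 2)) ⊓
          fixer φ {v | ∃ m : Fin n, m ≠ i ∧ m ≠ j ∧ 2 * m + 1 < n ∧ v = b m}
        have hj' : 2 * (k + 1) + 1 < n := hj
        have hX : ∀ i' j' : Fin n, i' ≠ j' → (i' = i ∨ i' = j) → (j' = i ∨ j' = j) → ∀ a : K,
            ∃ h ∈ X, φ h (b i') = b i' + a • b j' ∧ φ h (b j') = b j' := fun i' j' h1 h2 h3 a => by
          have h2' : (i' : ℕ) < k + 2 := by rcases h2 with rfl | rfl <;> simp [i, j]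
          have h3' : (j' : ℕ) < k + 2 := by rcases h3 with rfl | rfl <;> simp [i, j]
          obtain ⟨x, hx, h5, h4⟩ := D.exists_root (p := p) h1 (by omega) (by omega) a
          refine ⟨x, ⟨Good.pel D.QF_le (D.stab_le_normalizer_QF (by omega)
            (mem_stab_F fun m hm => ?_)) hx, ?_⟩, h5, h4 _ h1.symm (by omega)⟩
          · by_cases e : m = i'
            · rw [e, h5]
              exact add_mem (basis_mem_F h2') (Submodule.smul_mem _ _ (basis_mem_F h3'))
            · rw [h4 m e (by omega)]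
              exact basis_mem_F hm
          · rintro _ ⟨m, h6, h7, h8, rfl⟩
            exact h4 m (h2.elim (· ▸ h6) (· ▸ h7)) h8
        obtain ⟨x, ⟨hx1, hx2⟩, hx3, hx4⟩ := exists_torus (X := X)
          (fun a => (hX j i hij.symm (.inr rfl) (.inl rfl) a).imp fun _ h => ⟨h.1, h.2.2, h.2.1⟩)
          (hX i j hij (.inl rfl) (.inr rfl)) (dg_ne_zero hg i)
        have hx : x ∈ Bor b φ := D.mem_Bor_of_half fun m hm => by
          by_cases e : m = i
          · rw [e, hx3]
            exact Submodule.smul_mem _ _ (basis_mem_F (Nat.lt_succ_self _))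
          by_cases e' : m = j
          · rw [e', hx4]
            exact add_mem (Submodule.smul_mem _ _ (basis_mem_F (Nat.lt_succ_self _)))
              (Submodule.smul_mem _ _ (basis_mem_F (by simp only [i, j]; omega)))
          rw [hx2 _ ⟨m, e, e', hm, rfl⟩]
          exact basis_mem_F (Nat.lt_succ_self _)
        exact ⟨x, hx, up _ (by omega) (by omega) x hx hx1, hx3, fun m hm => hx2 _
          ⟨m, by simp only [ne_eq, Fin.ext_iff, i]; omega,
            by simp only [ne_eq, Fin.ext_iff, j]; omega, by omega, rfl⟩⟩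
      have hj' : ¬ 2 * (k + 1) + 1 < n := hj
      have hr : (i.rev : ℕ) = n - (k + 1) := i.val_rev
      obtain ⟨d, hd, h1, h2, h3⟩ : ∃ d ∈ F b (n - k), B d (b i) = 0 ∧ B d (b i.rev) = 0 ∧
          B d d = σ (dg b φ g i) - dg b φ g i := by
        by_cases e : j = j.rev
        · have h0 : B (b j) (b j) ≠ 0 := by simpa only [← e] using D.nondeg j
          have h0' : σ (B (b j) (b j)) = -B (b j) (b j) := by
            conv_rhs => rw [D.skew, neg_neg]
          obtain ⟨r, hr⟩ := D.norm j e.symm ((σ (dg b φ g i) - dg b φ g i) / B (b j) (b j)) (by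
            rw [map_div₀, map_sub, D.invol, h0', div_neg, ← neg_div, neg_sub])
          refine ⟨r • b j, Submodule.smul_mem _ _ (basis_mem_F (by simp only [j]; omega)),
            by simp [D.orth j i (e ▸ hij)], by simp [D.orth j i.rev (by simpa using hij)], ?_⟩
          rw [eq_div_iff h0] at hr
          simp only [map_smulₛₗ, LinearMap.smul_apply, smul_eq_mul, RingHom.id_apply, ← hr]
          ring
        · refine ⟨0, zero_mem _, by simp, by simp, ?_⟩
          have h4 : j = i.rev := by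
            simp only [Fin.ext_iff, Fin.val_rev, i, j] at e ⊢
            omega
          have h5 := (prod_dg hg).trans (D.det g)
          rw [Finset.prod_eq_mul i j hij (fun m _ hm => by
            by_cases e' : (m : ℕ) < k
            · exact h m e'
            · exact D.dg_of_rev hg (h _ (by
                have := m.2
                simp only [ne_eq, Fin.ext_iff, Fin.val_rev, i, j] at hm h4 ⊢
                omega))) (by simp) (by simp)] at h5
          have h6 := D.dg_mul_rev hg j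
          rw [h4, Fin.rev_rev, ← h4] at h6
          simp only [map_zero]
          linear_combination σ (dg b φ g i) * h5 - dg b φ g i * h6
      let X := goodSubgroup p (Uni b φ) (Subgroup.center H) (D.QF_le (l := 1)) ⊓
        fixer φ (F b k)
      obtain ⟨x, ⟨hx1, hx2⟩, hx3⟩ := D.exists_rank_one (X := X) (W := F b (n - k))
        (fun e he w hw c h hh => by
          have h4 : h ∈ fixer φ (F b k : Set V) := fun v hv =>
            hh.fix (D.orth_of_mem_F hv he (by omega)) (D.orth_of_mem_F hv hw (by omega))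
          exact ⟨Good.pel D.QF_le (D.stab_le_normalizer_QF (by omega) fun v hv => by
            rwa [h4 v (F_mono (by omega) hv)]) (D.rho_pow hh), h4⟩)
        (basis_mem_F (i := i) (by simp only [i]; omega)) (basis_mem_F (i := i.rev) (by omega)) hd
        (D.iso (by simp only [ne_eq, Fin.ext_iff, hr, i]; omega))
        (D.iso (by simp only [ne_eq, Fin.ext_iff, hr, Fin.rev_rev, i]; omega)) (D.nondeg i) h1 h2
        (dg_ne_zero hg i) h3
      have hx : x ∈ Bor b φ := D.mem_Bor_of_half fun m hm => by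
        by_cases e : m = i
        · rw [e, hx3]
          exact Submodule.smul_mem _ _ (basis_mem_F (Nat.lt_succ_self _))
        rw [hx2 _ (basis_mem_F (by simp only [Fin.ext_iff, i] at e; omega))]
        exact basis_mem_F (Nat.lt_succ_self _)
      exact ⟨x, hx, up _ one_pos (by omega) x hx hx1, hx3, fun m hm => hx2 _ (basis_mem_F hm)⟩
  exact key 0 (Nat.zero_le _) g hg fun _ h => absurd h (Nat.not_lt_zero _)

/-- `U` is generated by Eichler transformations. -/
theorem Uni_le {T : Subgroup H} (hT : ∀ (k : Fin n) w c h, 2 * k + 1 < n →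
    IsRho φ B (b k) w c h → h ∈ Uni b φ → h ∈ T) : Uni b φ ≤ T := by
  have gen : ∀ k ≤ n, ∀ u ∈ Uni b φ,
      (∀ i : Fin n, i < k → φ u (b i) = b i ∧ φ u (b i.rev) = b i.rev) → u ∈ T := fun k hk => by
    induction hk using Nat.decreasingInduction with
    | self =>
      exact fun u _ h => (show u = 1 from D.inj (b.ext fun i => by simp [(h i i.2).1])) ▸ one_mem T
    | of_succ k hk ih =>
      intro u hu h
      let i : Fin n := ⟨k, hk⟩
      have hr : (i.rev : ℕ) = n - (k + 1) := i.val_rev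
      have step : ∀ u ∈ Uni b φ, (∀ m : Fin n, m < k → φ u (b m) = b m ∧ φ u (b m.rev) = b m.rev) →
          φ u (b i) = b i → φ u (b i.rev) = b i.rev → u ∈ T := fun u hu h h1 h2 =>
        ih u hu fun m hm => by
          rcases (Nat.le_of_lt_succ hm).eq_or_lt with e | e
          · rw [show m = i from Fin.ext e]
            exact ⟨h1, h2⟩
          · exact h m e
      have h1 : φ u (b i) = b i := sub_eq_zero.1 (eq_zero_of_mem_F (b := b) fun m _ => by
        rcases lt_or_ge (m : ℕ) k with e | e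
        · have := D.apply_basis (φ u (b i) - b i) m.rev
          rw [Fin.rev_rev, map_sub, LinearMap.sub_apply, ← D.isom u (b i), (h m e).2,
            sub_self] at this
          exact (mul_eq_zero.1 this.symm).resolve_right (D.nondeg m)
        · exact hu k _ (basis_mem_F (Nat.lt_succ_self _)) m e)
      by_cases hi : 2 * k + 1 < n
      · obtain ⟨c, g, hg, h2⟩ := D.exists_rho_map (e := b i) (f := b i.rev) (f' := φ u (b i.rev))
          (D.iso (by simp only [ne_eq, Fin.ext_iff, hr, i]; omega)) (D.nondeg' i)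
          (by rw [← D.isom u (b i.rev), h1]) (D.isom u _ _)
        have hgU := D.rho_mem_Uni hg hi
          (Submodule.smul_mem _ _ (hu _ _ (basis_mem_F (Nat.lt_succ_self _))))
        have h3 : ∀ v, φ u v = v → B v (b i) = 0 → φ (g⁻¹ * u) v = v := fun v h3 h4 => by
          have := hg.fix h4 (by
            rw [map_smulₛₗ, map_sub, ← D.isom u v (b i.rev), h3, sub_self, smul_zero])
          rw [act_mul, h3, ← this, act_inv, this]
        refine (mul_mem_cancel_left (inv_mem (hT i _ _ _ hi hg hgU))).1 (step _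
          (mul_mem (inv_mem hgU) hu) (fun m hm => ⟨h3 _ (h m hm).1 (D.orth _ _ ?_),
            h3 _ (h m hm).2 (D.orth _ _ ?_)⟩) (h3 _ h1 hg.he) (by rw [act_mul, ← h2, act_inv])) <;>
          simp only [ne_eq, Fin.ext_iff, Fin.val_rev, i] <;> omega
      refine step u hu h h1 ?_
      by_cases e : i.rev = i
      · rwa [e]
      · exact (h i.rev (by simp only [Fin.ext_iff, hr, i] at e; omega)).1
  exact fun u hu => gen 0 n.zero_le u hu fun _ h => absurd h (Nat.not_lt_zero _)

include p in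
theorem sc [Finite K] (hn : 4 ≤ n) (hex : (∃ x, x + σ x ≠ 0) ∨ 6 ≤ n ∨ ∃ a : K, a ≠ 0 ∧ a ≠ 1)
    {T : Subgroup H} (hTU : T ≤ Uni b φ) {t : H} (ht : t ∈ T) (h1 : t ≠ 1)
    (hsc : ∀ t ∈ T, ∀ g, g * t * g⁻¹ ∈ Uni b φ → g * t * g⁻¹ ∈ T) : Uni b φ ≤ T := by
  obtain ⟨t, ht, hQ, h1⟩ := exists_mem_inf (p := p) (isPGroup_Uni D.inj) hTU D.QF_le
    ((Uni_le_stab 1).trans (D.stab_le_normalizer_QF (by omega)))
    (D.centric_QF one_pos (by omega)) hsc ht h1
  let o : Fin n := ⟨0, by omega⟩
  let i : Fin n := ⟨1, by omega⟩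
  have hor : (o.rev : ℕ) = n - 1 := o.val_rev
  have hir : (i.rev : ℕ) = n - 2 := i.val_rev
  have ho1 : b o ∈ F b 1 := basis_mem_F one_pos
  have hi2 : b i ∈ F b 2 := basis_mem_F (Nat.lt_succ_self 1)
  have hi' : b i.rev ∈ F b (n - 1) := basis_mem_F (by omega)
  have hoo : B (b o) (b o) = 0 := D.orth_of_mem_F ho1 ho1 (by omega)
  have hii : B (b i) (b i) = 0 := D.orth_of_mem_F hi2 hi2 (by omega)
  have hoi : B (b o) (b i) = 0 := D.orth_of_mem_F ho1 hi2 (by omega)
  have hi'i' : B (b i.rev) (b i.rev) = 0 :=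
    D.iso (by simp only [ne_eq, Fin.ext_iff, Fin.rev_rev, hir, i]; omega)
  have hoF : ∀ v ∈ F b (n - 1), B (b o) v = 0 := fun v hv => D.orth_of_mem_F ho1 hv (by omega)
  have hFo : ∀ v, B v (b o) = 0 → v ∈ F b (n - 1) := fun v hv => D.mem_F_of_orth fun j hj => by
    rwa [show j = o from Fin.ext (by simp only [o]; omega)]
  have hF1 : ∀ v ∈ F b 1, v = b.repr v o • b o := fun v hv =>
    sub_eq_zero.1 (eq_zero_of_mem_F (sub_mem_F (i := o) hv))
  have hU : ∀ w c h, IsRho φ B (b o) w c h → h ∈ Uni b φ := fun w c h hh =>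
    D.rho_mem_Uni hh (by simp only [o]; omega) (hor ▸ hFo w hh.hw)
  let R : V → K → Prop := fun w c => ∃ h ∈ T, IsRho φ B (b o) w c h
  have Radd : ∀ {w c w' c'}, R w c → R w' c' → R (w + w') (c + c' + B w' w) :=
    fun ⟨h, h1, h2⟩ ⟨h', h3, h4⟩ => ⟨_, mul_mem h1 h3, D.rho_mul h2 h4⟩
  have Rneg : ∀ {w c}, R w c → R (-w) (-c + B w w) := fun ⟨h, h1, h2⟩ =>
    ⟨_, inv_mem h1, D.rho_inv h2⟩
  have Rconj : ∀ {w c g s}, R w c → s ≠ 0 → φ g (b o) = s • b o →
      R (σ s • φ g w) (s * σ s * c) := fun {w c g s} ⟨h, h1, h2⟩ hs hg => by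
    have := (hg ▸ D.rho_conj h2 g).of_smul D.invol hs
    exact ⟨_, hsc h h1 g (hU _ _ _ this), this⟩
  have Rfix : ∀ {w c g}, R w c → φ g (b o) = b o → R (φ g w) c := fun h hg => by
    simpa using Rconj h one_ne_zero (by rw [one_smul]; exact hg)
  have Rsub : ∀ {w c c'}, R w c → R w c' → R 0 (c - c') := fun {w c c'} h h' => by
    convert Radd h (Rneg h') using 1
    · simp
    · simp only [map_neg, LinearMap.neg_apply]
      ring
  let A : AddSubgroup V :=
    { carrier := {w | ∃ c, R w c}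
      add_mem' := fun ⟨_, h⟩ ⟨_, h'⟩ => ⟨_, Radd h h'⟩
      zero_mem' := ⟨0, 1, one_mem T, hoo, by simp, by simp, by simp⟩
      neg_mem' := fun ⟨_, h⟩ => ⟨_, Rneg h⟩ }
  have Ao : ∀ s : K, s • b o ∈ A := fun s => ⟨-(s + σ s), 1, one_mem T, hoo, by simp [hoo],
    by simp [hoo, D.invol, add_comm], fun x => by
      simp only [map_smulₛₗ, smul_eq_mul, act_one]
      module⟩
  have Arho : ∀ {w e u c}, w ∈ A → B e e = 0 → B u e = 0 → c - σ c = B u u → e ∈ F b (n - 1) →
      u ∈ F b (n - 1) → B w e • u + (B w u + c * B w e) • e ∈ A :=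
    fun {w e u c} hw h1 h2 h3 h4 h5 => by
      obtain ⟨g, hg⟩ := D.rho e u c h1 h2 h3
      obtain ⟨d, hd⟩ := hw
      have := sub_mem (show φ g w ∈ A from ⟨d, Rfix hd (hg.fix (hoF e h4) (hoF u h5))⟩) ⟨d, hd⟩
      rwa [hg.act, add_assoc, add_sub_cancel_left] at this
  have Atv : ∀ {w e a}, w ∈ A → B e e = 0 → σ a = a → e ∈ F b (n - 1) → (a * B w e) • e ∈ A :=
    fun {w e a} hw h1 h2 h3 => by
      simpa using Arho (c := a) hw h1 (u := 0) (by simp) (by simp [h2]) h3 (zero_mem _)
  have hi1 : b i ∈ F b (n - 1) := F_mono (by omega) hi2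
  have hroot : ∀ i' j' : Fin n, i' ≠ j' → 2 * i' + 1 < n → 2 * j' + 1 < n → ∀ a : K,
      ∃ h ∈ (⊤ : Subgroup H), φ h (b i') = b i' + a • b j' ∧ φ h (b j') = b j' :=
    fun i' j' h1 h2 h3 a => by
      obtain ⟨x, -, h4, h5⟩ := D.exists_root (p := p) h1 h2 h3 a
      exact ⟨x, trivial, h4, h5 _ h1.symm h3⟩
  have hio : i ≠ o := by simp [i, o]
  have ho2 : 2 * o + 1 < n := by simp only [o]; omega
  have hi3 : 2 * i + 1 < n := by simp only [i]; omega
  have htor : ∀ s : K, s ≠ 0 → ∃ g, φ g (b o) = s • b o ∧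
      φ g (b i) = s⁻¹ • b i + (s - 1) • b o := fun s hs => by
    obtain ⟨g, -, hg⟩ := exists_torus (X := ⊤)
      (fun a => (hroot i o hio hi3 ho2 a).imp fun _ h => ⟨h.1, h.2.2, h.2.1⟩)
      (hroot o i hio.symm ho2 hi3) hs
    exact ⟨g, hg⟩
  have hswap : ∀ k : Fin n, 2 * k + 1 < n → ∃ g, φ g (b o) = b k := fun k hk => by
    by_cases e : k = o
    · exact ⟨1, by simp [e]⟩
    obtain ⟨x, -, h1, h2⟩ := hroot k o e hk ho2 (-1)
    obtain ⟨y, -, h3, -⟩ := hroot o k (Ne.symm e) ho2 hk 1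
    exact exists_swap h2 h1 h3
  -- one multiple of `b i` gives everything
  have Aall : ∀ s : K, s ≠ 0 → s • b i ∈ A → ∀ v ∈ F b (n - 1), v ∈ A := fun s hs h => by
    have hβ := D.nondeg i
    have hβ' : σ (B (b i) (b i.rev)) ≠ 0 := by simpa using hβ
    have A0 : ∀ {s a : K}, s • b i ∈ A → σ a = a → (a * s) • b i ∈ A := fun {s a} h ha => by
      convert Atv (Atv h hi'i' (a := -a / (B (b i) (b i.rev) * σ (B (b i) (b i.rev))))
        (by simp [ha, D.invol, mul_comm]) hi') hii (map_one σ) hi1 using 2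
      simp only [map_smul, LinearMap.smul_apply, smul_eq_mul, D.skew (b i) (b i.rev)]
      field_simp
    have Asq : ∀ x : K, (x * x * s) • b i ∈ A := fun x => by
      by_cases hx : x = 0
      · simp [hx]
      have hx' : σ x ≠ 0 := by simpa using hx
      obtain ⟨g, h1, h2⟩ := htor (σ x) hx'
      obtain ⟨d, hd⟩ := h
      have h3 := sub_mem (show _ ∈ A from ⟨_, Rconj hd hx' h1⟩) (Ao (x * s * (σ x - 1)))
      convert A0 (s := x * s * (σ x)⁻¹) (a := x * σ x) (by
        convert h3 using 1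
        rw [map_smul, h2, D.invol]
        module) (by simp [D.invol, mul_comm]) using 2
      field_simp
    have Ai : ∀ y : K, y • b i ∈ A := fun y => by
      obtain ⟨x, z, -, -, h⟩ := exists_sq_sub_sq (σ := RingHom.id K) (a := y / s) rfl
      convert sub_mem (Asq x) (Asq z) using 1
      rw [← sub_smul, ← sub_mul, ← h, div_mul_cancel₀ _ hs]
    have Ai' : ∀ y : K, y • b i.rev ∈ A := fun y => by
      convert Atv (Ai (y / B (b i) (b i.rev))) hi'i' (map_one σ) hi' using 2
      simp [hβ]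
    intro v hv
    have h2 : v - b.repr v i.rev • b i.rev ∈ F b i.rev := sub_mem_F (F_mono (by omega) hv)
    obtain ⟨c, hc⟩ := D.val (v - b.repr v i.rev • b i.rev)
    have h3 := (AddSubgroup.add_mem_cancel_right A (Ai _)).1 (Arho (Ai' (B (b i.rev) (b i))⁻¹) hii
      (D.orth_of_mem_F h2 hi2 (by omega)) hc hi1 (F_mono (by omega) h2))
    rw [map_smul, LinearMap.smul_apply, smul_eq_mul, inv_mul_cancel₀ (D.nondeg' i),
      one_smul] at h3
    simpa using add_mem h3 (Ai' (b.repr v i.rev))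
  have Aall' : ∀ w ∈ A, w ∉ F b 1 → ∀ v ∈ F b (n - 1), v ∈ A := fun w hw hw1 => by
    by_cases h2 : B w (b i) = 0
    swap
    · exact Aall _ (by simpa using h2) (Atv hw hii (map_one σ) hi1)
    by_cases h3 : ∀ u ∈ F b (n - 2), B w u = 0
    · have h4 := sub_mem_F (i := i) (D.mem_F_of_orth (v := w) (l := 2)
        fun j hj => h3 _ (basis_mem_F (by omega)))
      refine Aall (b.repr w i) (fun e => hw1 (by simpa [e] using h4)) ?_
      have := sub_mem hw (hF1 _ h4 ▸ Ao _)
      simpa using this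
    push Not at h3
    obtain ⟨u, hu, h3⟩ := h3
    obtain ⟨c, hc⟩ := D.val u
    exact Aall _ h3 (by simpa [h2] using (Arho hw hii (D.orth_of_mem_F hu hi2 (by omega)) hc hi1
      (F_mono (by omega) hu)))
  have Call : ∀ a, a ≠ 0 → R 0 a → ∀ a', σ a' = a' → R 0 a' := fun a ha h a' ha' => by
    have h0 : σ a = a := by
      obtain ⟨_, -, h⟩ := h
      exact (sub_eq_zero.1 (by simpa using h.hc)).symm
    have h1 : ∀ x, σ x = x → R 0 (x * x * a) := fun x hx => by
      by_cases e : x = 0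
      · simpa [e] using Rsub h h
      obtain ⟨g, hg, -⟩ := htor x e
      simpa [hx] using Rconj h e hg
    obtain ⟨x, y, hx, hy, e⟩ := exists_sq_sub_sq (σ := σ) (a := a' / a) (by simp [h0, ha'])
    convert Rsub (h1 x hx) (h1 y hy)
    rw [← sub_mul, ← e, div_mul_cancel₀ _ ha]
  have CA : ∀ a, a ≠ 0 → R 0 a → ∀ v ∈ F b (n - 1), v ∈ A := fun a ha h => by
    have h1 : ∀ g a', σ a' = a' → φ g (b o) ∈ F b 2 → ∃ h ∈ T, IsRho φ B (φ g (b o)) 0 a' h :=
      fun g a' ha' hg => by
        obtain ⟨x, h1, h2⟩ := Call a ha h a' ha'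
        have h3 := D.rho_conj h2 g
        rw [map_zero] at h3
        exact ⟨_, hsc x h1 g (D.QF_le (D.rho_mem_QF h3 (by omega) hg (zero_mem _))), h3⟩
    obtain ⟨g, hg⟩ := hswap i hi3
    obtain ⟨g', -, hg', -⟩ := hroot o i hio.symm ho2 hi3 1
    obtain ⟨x, h2, h3⟩ := h1 g (-1) (by simp) (hg ▸ hi2)
    obtain ⟨y, h4, h5⟩ := h1 g' 1 (map_one σ)
      (hg' ▸ add_mem (F_mono one_le_two ho1) (Submodule.smul_mem _ _ hi2))
    rw [hg] at h3
    rw [hg'] at h5
    refine Aall 1 one_ne_zero ⟨1, y * x, mul_mem h4 h2, hoo, by simp [D.symm hoi], by simp [hii],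
      fun v => ?_⟩
    simp only [act_mul, h3.act, h5.act, map_add, map_smul, LinearMap.add_apply, map_smulₛₗ,
      LinearMap.smul_apply, hii, D.symm hoi, map_zero, map_one, smul_eq_mul,
      LinearMap.zero_apply]
    module
  have AC : (∀ v ∈ F b (n - 1), v ∈ A) → ∃ a, a ≠ 0 ∧ R 0 a := fun h => by
    by_contra! hC
    have uniq : ∀ {w c c'}, R w c → R w c' → c = c' := fun h h' => by
      by_contra e
      exact hC _ (sub_ne_zero.2 e) (Rsub h h')
    by_cases hx : ∃ x, x + σ x ≠ 0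
    · obtain ⟨x, hx⟩ := hx
      obtain ⟨c, hc⟩ := h ((x / B (b i) (b i.rev)) • b i) (Submodule.smul_mem _ _ hi1)
      obtain ⟨c', hc'⟩ := h _ hi'
      have := uniq (Radd hc hc') (add_comm (b i.rev) _ ▸ Radd hc' hc)
      rw [D.skew] at this
      simp only [map_smul, LinearMap.smul_apply, smul_eq_mul, div_mul_cancel₀ _ (D.nondeg i)]
        at this
      exact hx (by linear_combination -this)
    replace hex := hex.resolve_left hx
    push Not at hx
    have h2 : (1 : K) + 1 = 0 := by simpa using hx 1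
    have hσ : ∀ x, σ x = x := fun x => by linear_combination hx x - x * h2
    have alt : ∀ w, B w w = 0 := fun w => by
      obtain ⟨c, hc⟩ := D.val w
      rw [← hc, hσ, sub_self]
    have one : ∀ u ∈ F b (n - 1), B (b i.rev) u ≠ 0 ∨ (∃ j : Fin n, j < n - 1 ∧ B (b j) u ≠ 0) →
        ∀ d, R u d → d = 1 := fun u hu hw d hd => by
      obtain ⟨j, hj, hw⟩ := hw.elim (fun h => ⟨i.rev, by omega, h⟩) id
      obtain ⟨c, hc⟩ := h ((B (b j) u)⁻¹ • b j) (Submodule.smul_mem _ _ (basis_mem_F hj))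
      obtain ⟨g, hg⟩ := D.exists_tv (alt u) (map_one σ)
      have h3 := Rfix hc (hg.fix (hoF u hu) (by simp))
      simp only [hg.act, map_smul, LinearMap.smul_apply, smul_eq_mul, inv_mul_cancel₀ hw,
        smul_zero, add_zero, map_zero, zero_add, one_mul, one_smul] at h3
      have := uniq h3 (Radd hc hd)
      rw [D.skew, hσ] at this
      simp only [map_smul, LinearMap.smul_apply, smul_eq_mul, inv_mul_cancel₀ hw] at this
      linear_combination -this
    obtain ⟨u, hu, h3, h4, h5⟩ : ∃ u ∈ F b (n - 1), (∃ j : Fin n, j < n - 1 ∧ B (b j) u ≠ 0) ∧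
        B (b i.rev) (b i + u) ≠ 0 ∧ B u (b i) = 0 := by
      rcases hex with h6 | ⟨a, ha, ha'⟩
      · let j : Fin n := ⟨2, by omega⟩
        have hij : j ≠ i := by simp [i, j]
        exact ⟨b j, basis_mem_F (by simp only [j]; omega), ⟨j.rev, by
          simp only [Fin.val_rev, j]; omega, D.nondeg' j⟩, by
          simpa [D.orth i.rev j (by simpa using hij)] using D.nondeg' i,
          D.orth _ _ (by simp only [ne_eq, Fin.ext_iff, Fin.val_rev, i, j]; omega)⟩
      · refine ⟨a • b i, Submodule.smul_mem _ _ hi1, ⟨i.rev, by omega, by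
          simp [ha, D.nondeg' i]⟩, fun e => ?_, by simp [hii]⟩
        simp only [map_add, map_smulₛₗ, hσ, smul_eq_mul] at e
        exact ha' (mul_right_cancel₀ (D.nondeg' i) (by
          linear_combination e - B (b i.rev) (b i) * h2))
    obtain ⟨c, hc⟩ := h _ hi1
    obtain ⟨d, hd⟩ := h _ hu
    have := one _ (add_mem hi1 hu) (.inl h4) _ (Radd hc hd)
    rw [one _ hi1 (.inl (D.nondeg' i)) c hc, one u hu (.inr h3) d hd, h5, h2, add_zero] at this
    exact zero_ne_one this
  have hto : φ t (b o) = b o := hQ.1 _ ho1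
  obtain ⟨c, g, hg, h2⟩ := D.exists_rho_map (e := b o) (f := b o.rev) (f' := φ t (b o.rev)) hoo
    (D.nondeg' o) (by rw [← D.isom t (b o.rev), hto]) (D.isom t _ _)
  obtain rfl : g = t := inv_mul_eq_one.1 (D.eq_one_of_mem_QF (o := o) rfl (mul_mem (inv_mem
    (D.rho_mem_QF hg (by omega) ho1 (hFo _ hg.hw))) hQ) (by rw [act_mul, ← h2, act_inv]))
  have both : (∀ v ∈ F b (n - 1), v ∈ A) ∧ ∃ a, a ≠ 0 ∧ R 0 a := by
    by_cases hw : (B (b o.rev) (b o))⁻¹ • (φ g (b o.rev) - b o.rev) ∈ F b 1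
    · rw [hF1 _ hw] at hg
      obtain ⟨a, h3⟩ : ∃ a, IsRho φ B (b o) 0 a g := ⟨_, hg.of_smul_self D.invol⟩
      have h4 : a ≠ 0 := fun e => h1 (D.inj (LinearMap.ext fun x => by rw [h3.act, e]; simp))
      exact ⟨CA _ h4 ⟨g, ht, h3⟩, _, h4, g, ht, h3⟩
    · exact ⟨Aall' _ ⟨c, g, ht, hg⟩ hw, AC (Aall' _ ⟨c, g, ht, hg⟩ hw)⟩
  obtain ⟨h3, a, ha, h4⟩ := both
  refine D.Uni_le fun k w c h hk hh hu => ?_
  obtain ⟨x, hx⟩ := hswap k hk
  have h5 := D.rho_conj hh x⁻¹
  rw [← hx, act_inv] at h5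
  obtain ⟨c', hc'⟩ := h3 _ (hFo _ h5.hw)
  obtain ⟨y, h6, h7⟩ := Radd hc' (Call a ha h4 (c - c') (by
    obtain ⟨_, -, h⟩ := hc'
    rw [map_sub]
    linear_combination h.hc - h5.hc))
  simp only [add_zero, map_zero, LinearMap.zero_apply, add_sub_cancel] at h7
  have := hsc y h6 x (by rw [D.rho_unique h7 h5]; simpa [mul_assoc] using hu)
  rw [D.rho_unique h7 h5] at this
  simpa [mul_assoc] using this

theorem crit [Finite K] (hn : 4 ≤ n)
    (hex : (∃ x, x + σ x ≠ 0) ∨ 6 ≤ n ∨ ∃ a : K, a ≠ 0 ∧ a ≠ 1) :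
    Crit p (Uni b φ) (Subgroup.center H) where
  sylow := isSylowIn_Uni D.inj D.simple_roots
  ne h := by
    obtain ⟨u, hu, h1⟩ := D.simple_roots ⟨0, by omega⟩ ⟨1, by omega⟩ rfl
    rw [D.center_eq_one (by omega) u (h hu) (pow_eq_one_of_mem (isPGroup_Uni D.inj) hu)] at h1
    simp at h1
  sc T hTU _ hne hsc := by
    obtain ⟨t, ht, h1⟩ := SetLike.not_le_iff_exists.1 hne
    exact D.sc (p := p) hn hex hTU ht (fun e => h1 (e ▸ one_mem _)) hsc
  gen g hg _ := D.good hn (normalizer_le_Bor D.simple_roots hg)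

end FormData

end Cfsg.Agent.Lie
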