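import Cfsg.Agent.Lib.Lie.Flag
import Cfsg.Prelude.Def_Classical

/-!
The fusion system of `PSL_n(q)` in the defining characteristic is simple for `n ≥ 3`.
-/

set_option autoImplicit false
set_option linter.unusedSectionVars false

namespace Cfsg.Agent.Lie

open Cfsg.Agent.Fus Module

variable {K V H : Type*} [Field K] [AddCommGroup V] [Module K V] [Group H] [Finite H] {n : ℕ}
  {b : Basis (Fin n) K V} {φ : H →* Module.End K V} {p : ℕ} [Fact p.Prime] [CharP K p]

variable (φ) in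
/-- `h` acts as the transvection `x ↦ x + f x • e`. -/
def IsTv (f : V →ₗ[K] K) (e : V) (h : H) : Prop := f e = 0 ∧ ∀ x, φ h x = x + f x • e

theorem IsTv.pow_eq_one (hφ : Function.Injective φ) {f : V →ₗ[K] K} {e : V} {h : H}
    (hh : IsTv φ f e h) : h ^ p ^ 2 = 1 := by
  refine hφ ?_
  rw [map_pow, map_one]
  exact pow_eq_one_of_nilpotent (LinearMap.ext fun v => by simp [sq, hh.2, hh.1])

theorem IsTv.conj {f : V →ₗ[K] K} {e : V} {h : H} (hh : IsTv φ f e h) (g : H) :
    IsTv φ (f ∘ₗ φ g⁻¹) (φ g e) (g * h * g⁻¹) :=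
  ⟨by rw [LinearMap.comp_apply, act_inv, hh.1], fun x => by
    rw [act_mul, act_mul, hh.2, map_add, map_smul, act_inv', LinearMap.comp_apply]⟩

theorem IsTv.mul {f f' : V →ₗ[K] K} {e : V} {h h' : H} (hh : IsTv φ f e h)
    (hh' : IsTv φ f' e h') : IsTv φ (f + f') e (h * h') :=
  ⟨by simp [hh.1, hh'.1], fun x => by
    simp only [act_mul, hh.2, hh'.2, map_add, map_smul, hh.1, LinearMap.add_apply]
    module⟩

theorem IsTv.unique (hφ : Function.Injective φ) {f : V →ₗ[K] K} {e : V} {h h' : H}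
    (hh : IsTv φ f e h) (hh' : IsTv φ f e h') : h = h' :=
  hφ (LinearMap.ext fun x => by rw [hh.2, hh'.2])

theorem IsTv.mem_Uni {f : V →ₗ[K] K} {k : Fin n} {h : H} (hh : IsTv φ f (b k) h)
    (hf : ∀ v ∈ F b (k + 1), f v = 0) : h ∈ Uni b φ := mem_Uni_of fun i => by
  rw [hh.2, add_sub_cancel_left]
  rcases lt_or_ge (k : ℕ) i with e | e
  · exact Submodule.smul_mem _ _ (basis_mem_F e)
  · simp [hf _ (basis_mem_F (Nat.lt_succ_of_le e))]

variable (b φ) in
/-- The unipotent radical of a maximal parabolic subgroup. -/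
def QL (l : ℕ) : Subgroup H := toSub
  { carrier := {h | (∀ v ∈ F b l, φ h v = v) ∧ ∀ v, φ h v - v ∈ F b l}
    mul_mem' := fun {x y} hx hy => ⟨fun v hv => by rw [act_mul, hy.1 v hv, hx.1 v hv], fun v => by
      simpa using add_mem (hx.2 (φ y v)) (hy.2 v)⟩
    one_mem' := by simp }

theorem QL_le (l : ℕ) : QL b φ l ≤ Uni b φ := fun h hh => mem_Uni_of fun i => by
  rcases lt_or_ge (i : ℕ) l with e | e
  · simp [hh.1 _ (basis_mem_F e)]
  · exact F_mono e (hh.2 _)

theorem stab_le_normalizer_QL (l : ℕ) :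
    stab φ (F b l) ≤ Subgroup.normalizer (QL b φ l : Set H) := fun g hg =>
  mem_normalizer_of_conj_mem fun u hu => ⟨fun v hv => by
    rw [act_mul, act_mul, hu.1 _ (inv_mem hg v hv), act_inv'], fun v => by
    have := hg _ (hu.2 (φ g⁻¹ v))
    rwa [map_sub, act_inv', ← act_mul, ← act_mul] at this⟩

theorem IsTv.mem_QL {f : V →ₗ[K] K} {e : V} {h : H} (hh : IsTv φ f e h) {l : ℕ} (he : e ∈ F b l)
    (hf : ∀ v ∈ F b l, f v = 0) : h ∈ QL b φ l :=
  ⟨fun v hv => by simp [hh.2, hf v hv], fun v => by simpa [hh.2] using Submodule.smul_mem _ _ he⟩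

theorem coord_basis_ne {i j : Fin n} (h : i ≠ j) : b.coord i (b j) = 0 := by
  simp [h.symm]

section

variable (hφ : Function.Injective φ)
  (hT : ∀ (f : V →ₗ[K] K) (e : V), f e = 0 → ∃ h, IsTv φ f e h)
include hφ hT

omit hφ in
theorem exists_elem {i j : Fin n} (hij : i ≠ j) (a : K) :
    ∃ h, IsTv φ (a • b.coord i) (b j) h := hT _ _ (by simp [coord_basis_ne hij])

theorem centric_QL {l : ℕ} (h0 : 0 < l) (hl : l < n) (c : H) (hc : ∃ k, c ^ p ^ k = 1)
    (h : ∀ r ∈ QL b φ l, c * r = r * c) : c ∈ QL b φ l := by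
  obtain ⟨k, hk⟩ := hc
  have key : ∀ e ∈ F b l, ∀ j : Fin n, l ≤ j → ∀ x, b.repr x j • φ c e = b.repr (φ c x) j • e :=
    fun e he j hj x => by
      obtain ⟨r, hr⟩ := hT (b.coord j) e (he j hj)
      have := congrArg (fun g => φ g x) (h r (hr.mem_QL he fun v hv => hv j hj))
      simpa [hr.2] using this
  have h1 : ∀ e ∈ F b l, φ c e = e := fun e he => fix_of_eigen hk (by
    simpa using key e he ⟨l, hl⟩ le_rfl (b ⟨l, hl⟩))
  refine ⟨h1, fun v j hj => ?_⟩
  have he : b ⟨0, h0.trans hl⟩ ∈ F b l := basis_mem_F h0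
  have := key _ he j hj v
  rw [h1 _ he] at this
  simp [smul_left_injective K (b.ne_zero _) this]

include b in
theorem center_eq_one_SL (hn : 2 ≤ n) (z : H) (hz : z ∈ Subgroup.center H)
    (hk : ∃ k, z ^ p ^ k = 1) : z = 1 := by
  obtain ⟨k, hk⟩ := hk
  refine hφ (b.ext fun i => ?_)
  obtain ⟨j, hj⟩ : ∃ j, j ≠ i := @exists_ne _ (Fin.nontrivial_iff_two_le.2 hn) i
  obtain ⟨r, hr⟩ := exists_elem (b := b) hT hj 1
  have := congrArg (fun g => φ g (φ z⁻¹ (b j))) (Subgroup.mem_center_iff.1 hz r)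
  simp only [act_mul, act_inv', hr.2, map_add, map_smul, add_right_inj] at this
  rw [map_one, Module.End.one_apply]
  have h1 : φ z⁻¹ (b i) = ((1 : K) • b.coord j) (φ z⁻¹ (b j)) • b i := by
    have h2 := congrArg (φ z⁻¹) this
    simpa [act_inv] using h2
  have := fix_of_eigen (p := p) (k := k) (by rw [inv_pow, hk, inv_one]) h1
  conv_lhs => rw [← this, act_inv']

omit hφ in
theorem simple_roots_SL (i j : Fin n) (h : (i : ℕ) + 1 = j) :
    ∃ u ∈ Uni b φ, b.repr (φ u (b j)) i ≠ 0 := by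
  have hij : j ≠ i := by rintro rfl; omega
  obtain ⟨u, hu⟩ := exists_elem (b := b) hT hij 1
  exact ⟨u, hu.mem_Uni fun v hv => by simp [hv j h.le], by simp [hu.2, hij]⟩

include p in
theorem sc_SL (hn : 3 ≤ n) {T : Subgroup H} (hTU : T ≤ Uni b φ) {t : H} (ht : t ∈ T) (h1 : t ≠ 1)
    (hsc : ∀ t ∈ T, ∀ g, g * t * g⁻¹ ∈ Uni b φ → g * t * g⁻¹ ∈ T) : Uni b φ ≤ T := by
  obtain ⟨t, ht, hQ, h1⟩ := exists_mem_inf (p := p) (isPGroup_Uni hφ) hTU (QL_le 1)
    ((Uni_le_stab 1).trans (stab_le_normalizer_QL 1)) (centric_QL hφ hT one_pos (by omega)) hsc ht h1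
  set o : Fin n := ⟨0, by omega⟩
  have hF : ∀ v ∈ F b 1, v = b.repr v o • b o := fun v hv =>
    sub_eq_zero.1 (eq_zero_of_mem_F (sub_mem_F (i := o) hv))
  have hU : ∀ f h, IsTv φ f (b o) h → h ∈ Uni b φ := fun f h hh => hh.mem_Uni fun v hv => by
    rw [hF v hv, map_smul, hh.1, smul_zero]
  let A : (V →ₗ[K] K) → Prop := fun f => ∃ h ∈ T, IsTv φ f (b o) h
  have Aadd : ∀ f f', A f → A f' → A (f + f') := fun f f' ⟨h, h1, h2⟩ ⟨h', h3, h4⟩ =>
    ⟨_, mul_mem h1 h3, h2.mul h4⟩
  have Aneg : ∀ f, A f → A (-f) := fun f ⟨h, h1, h2⟩ => by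
    obtain ⟨h', h3⟩ := hT (-f) (b o) (by simp [h2.1])
    refine ⟨h', ?_, h3⟩
    rw [eq_inv_of_mul_eq_one_right ((h2.mul h3).unique hφ (h' := 1) ⟨by simp, by simp⟩)]
    exact inv_mem h1
  have Astep : ∀ f j, j ≠ o → A f → f (b j) ≠ 0 → ∀ g : V →ₗ[K] K, g (b o) = 0 → g (b j) = 0 →
      A g := fun f j hj ⟨h, h1, h2⟩ hf g hg hg' => by
    obtain ⟨x, hx⟩ := hT ((f (b j))⁻¹ • g) (b j) (by simp [hg'])
    have h3 := h2.conj x⁻¹
    have h4 : φ x⁻¹ (b o) = b o := by
      conv_lhs => rw [show b o = φ x (b o) by simp [hx.2, hg], act_inv]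
    rw [h4] at h3
    convert Aadd _ _ ⟨_, hsc h h1 _ (hU _ _ h3), h3⟩ (Aneg f ⟨h, h1, h2⟩) using 1
    ext v
    simp only [inv_inv, LinearMap.add_apply, LinearMap.comp_apply, hx.2, map_add, map_smul,
      LinearMap.smul_apply, smul_eq_mul, LinearMap.neg_apply]
    field_simp
    ring
  have h0 : IsTv φ (b.coord o ∘ₗ (φ t - 1)) (b o) t :=
    ⟨by simp [hQ.1 _ (basis_mem_F (b := b) (i := o) one_pos)], fun v => by
      rw [← sub_eq_iff_eq_add']
      exact hF _ (hQ.2 v)⟩
  obtain ⟨j, hj⟩ : ∃ j, (b.coord o ∘ₗ (φ t - 1)) (b j) ≠ 0 := by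
    by_contra! h
    exact h1 (hφ (b.ext fun i => by rw [h0.2, h i]; simp))
  have hjo : j ≠ o := fun e => hj (e ▸ h0.1)
  obtain ⟨l, hl⟩ : ∃ l, l ∉ ({o, j} : Finset (Fin n)) := by
    by_contra! h
    have := Finset.card_le_card fun l (_ : l ∈ Finset.univ) => h l
    have := Finset.card_le_two (a := o) (b := j)
    simp only [Finset.card_univ, Fintype.card_fin] at *
    omega
  simp only [Finset.mem_insert, Finset.mem_singleton, not_or] at hl
  have h2 := Astep _ j hjo ⟨t, ht, h0⟩ hj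
  have h3 := Astep _ l hl.1 (h2 _ (coord_basis_ne hl.1) (coord_basis_ne hl.2)) (by simp)
  have Aall : ∀ g : V →ₗ[K] K, g (b o) = 0 → A g := fun g hg => by
    simpa using Aadd _ _ (h2 (g - g (b j) • b.coord j) (by simp [hg, coord_basis_ne hjo]) (by simp))
      (h3 (g (b j) • b.coord j) (by simp [coord_basis_ne hjo]) (by simp [Ne.symm hl.2]))
  have hall : ∀ f k h, IsTv φ f (b k) h → h ∈ Uni b φ → h ∈ T := fun f k h hh hu => by
    obtain ⟨g, hg⟩ : ∃ g, φ g (b o) = b k := by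
      by_cases e : k = o
      · exact ⟨1, by simp [e]⟩
      obtain ⟨x, hx⟩ := exists_elem (b := b) hT e (-1)
      obtain ⟨y, hy⟩ := exists_elem (b := b) hT (Ne.symm e) 1
      exact exists_swap (x := x) (y := y) (by simp [hx.2, Ne.symm e])
        (by simp [hx.2]) (by simp [hy.2])
    have h4 := hh.conj g⁻¹
    rw [← hg, act_inv] at h4
    obtain ⟨h', h5, h6⟩ := Aall _ h4.1
    have := hsc h' h5 g (by rw [h6.unique hφ h4]; simpa [mul_assoc] using hu)
    rw [h6.unique hφ h4] at this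
    simpa [mul_assoc] using this
  have gen : ∀ k ≤ n, ∀ u ∈ Uni b φ, (∀ v, ∀ i : Fin n, i < k → b.repr (φ u v - v) i = 0) →
      u ∈ T := fun k hk => by
    induction hk using Nat.decreasingInduction with
    | self =>
      refine fun u _ h => (show u = 1 from hφ (LinearMap.ext fun v => b.ext_elem fun i => ?_)) ▸
        one_mem T
      simpa [sub_eq_zero] using h v i i.2
    | of_succ k hk ih =>
      intro u hu h
      have h4 : ∀ v ∈ F b (k + 1), (-(b.coord ⟨k, hk⟩ ∘ₗ (φ u - 1))) v = 0 := fun v hv =>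
        neg_eq_zero.2 (hu k v hv ⟨k, hk⟩ le_rfl)
      have h5 := basis_mem_F (b := b) (i := ⟨k, hk⟩) (Nat.lt_succ_self _)
      obtain ⟨x, hx⟩ := hT _ _ (h4 _ h5)
      have h6 : φ u (b ⟨k, hk⟩) = b ⟨k, hk⟩ := sub_eq_zero.1 (b.ext_elem fun i => by
        rcases lt_or_ge (i : ℕ) k with e | e
        · rw [h _ i e, map_zero, Finsupp.zero_apply]
        · rw [hu k _ h5 i e, map_zero, Finsupp.zero_apply])
      have h7 := hx.mem_Uni h4
      refine (mul_mem_cancel_right (hall _ _ _ hx h7)).1 (ih _ (mul_mem hu h7) fun v i hi => ?_)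
      rw [act_mul, hx.2, map_add, map_smul, h6]
      rcases (Nat.le_of_lt_succ hi).eq_or_lt with e | e
      · obtain rfl : i = ⟨k, hk⟩ := Fin.ext e
        simp
      · have := h v i e
        have h8 : (⟨k, hk⟩ : Fin n) ≠ i := by rintro rfl; simp at e
        simpa [Finsupp.single_apply, h8] using this
  exact fun u hu => gen 0 n.zero_le u hu fun _ _ h => absurd h (Nat.not_lt_zero _)

theorem good_SL (hn : 3 ≤ n) (hdet : ∀ h, LinearMap.det (φ h) = 1) {g : H} (hg : g ∈ Bor b φ) :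
    Good p (Uni b φ) (Subgroup.center H) (Uni b φ) g := by
  have key : ∀ k ≤ n - 1, ∀ g ∈ Bor b φ, (∀ i : Fin n, i < k → dg b φ g i = 1) →
      Good p (Uni b φ) (Subgroup.center H) (Uni b φ) g := fun k hk => by
    induction hk using Nat.decreasingInduction with
    | self =>
      intro g hg h
      have h1 := (prod_dg hg).trans (hdet g)
      rw [Finset.prod_eq_single ⟨n - 1, by omega⟩ (fun i _ hi => h i (by
        have := i.2
        simp only [ne_eq, Fin.ext_iff] at hi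
        omega)) (by simp)] at h1
      have hu : g ∈ Uni b φ := mem_Uni_of_dg hg fun i => by
        rcases lt_or_ge (i : ℕ) (n - 1) with e | e
        · exact h i e
        · rwa [show i = ⟨n - 1, by omega⟩ from Fin.ext (by have := i.2; simp only; omega)]
      exact Good.of_mem (isPGroup_Uni hφ) le_rfl hu (Subgroup.le_normalizer hu)
    | of_succ k hk ih =>
      intro g hg h
      obtain ⟨l, h0, hl, hlk⟩ : ∃ l, 0 < l ∧ l < n ∧ l ≠ k + 1 := by
        by_cases e : k = 0
        exacts [⟨2, by omega⟩, ⟨k, by omega⟩]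
      let i : Fin n := ⟨k, by omega⟩
      let j : Fin n := ⟨k + 1, by omega⟩
      have hij : i ≠ j := by simp [i, j]
      let X := goodSubgroup p (Uni b φ) (Subgroup.center H) (QL_le (b := b) (φ := φ) l) ⊓
        fixer φ {v | ∃ m, m ≠ i ∧ m ≠ j ∧ v = b m}
      have hX : ∀ i' j' : Fin n, i' ≠ j' → (i' = i ∨ i' = j) → (j' = i ∨ j' = j) → ∀ a : K,
          ∃ h ∈ X, φ h (b i') = b i' + a • b j' ∧ φ h (b j') = b j' := fun i' j' h1 h2 h3 a => by
        obtain ⟨x, hx⟩ := exists_elem (b := b) hT h1 a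
        have h4 : ∀ m, m ≠ i' → φ x (b m) = b m := fun m hm => by
          simp [hx.2, hm]
        have h5 : φ x (b i') = b i' + a • b j' := by simp [hx.2]
        refine ⟨x, ⟨Good.pel (QL_le l) (stab_le_normalizer_QL l (mem_stab_F fun m hm => ?_))
          (hx.pow_eq_one hφ), ?_⟩, h5, h4 _ h1.symm⟩
        · by_cases e : m = i'
          · rw [e, h5]
            refine add_mem (basis_mem_F (e ▸ hm)) (Submodule.smul_mem _ _ (basis_mem_F ?_))
            rcases h2 with rfl | rfl <;> rcases h3 with rfl | rfl <;> subst e <;>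
              simp only [i, j] at hm ⊢ <;> omega
          · rw [h4 m e]
            exact basis_mem_F hm
        · rintro _ ⟨m, h6, h7, rfl⟩
          exact h4 m (h2.elim (· ▸ h6) (· ▸ h7))
      obtain ⟨x, ⟨hx1, hx2⟩, hx3, hx4⟩ := exists_torus (X := X)
        (fun a => (hX j i hij.symm (.inr rfl) (.inl rfl) a).imp fun _ h => ⟨h.1, h.2.2, h.2.1⟩)
        (hX i j hij (.inl rfl) (.inr rfl)) (dg_ne_zero hg i)
      have hx : x ∈ Bor b φ := mem_Bor_of fun m => by
        by_cases e : m = i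
        · rw [e, hx3]
          exact Submodule.smul_mem _ _ (basis_mem_F (Nat.lt_succ_self _))
        by_cases e' : m = j
        · rw [e', hx4]
          exact add_mem (Submodule.smul_mem _ _ (basis_mem_F (Nat.lt_succ_self _)))
            (Submodule.smul_mem _ _ (basis_mem_F (by simp only [i, j]; omega)))
        rw [hx2 _ ⟨m, e, e', rfl⟩]
        exact basis_mem_F (Nat.lt_succ_self _)
      have h1 : Good p (Uni b φ) (Subgroup.center H) (Uni b φ) x := Good.up (QL_le l) le_rfl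
        (centricMod_center (center_eq_one_SL (b := b) hφ hT (by omega)) (centric_QL hφ hT h0 hl))
        (Bor_le_normalizer hx) hx1
      have := h1.mul (ih (x⁻¹ * g) (mul_mem (inv_mem hx) hg) fun m hm => by
        rw [dg_mul (inv_mem hx) hg, ← dg_inv_mul hx m]
        congr 1
        refine (dg_eq ?_).symm
        by_cases e : m = i
        · simp [e, hx3]
        · have h2 : (m : ℕ) < k := by
            simp only [Fin.ext_iff, i] at e
            omega
          rw [hx2 _ ⟨m, e, by simp only [ne_eq, Fin.ext_iff, j]; omega, rfl⟩, h m h2]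
          simp)
      simpa using this
  exact key 0 (Nat.zero_le _) g hg fun _ h => absurd h (Nat.not_lt_zero _)

theorem crit_SL (hn : 3 ≤ n) (hdet : ∀ h, LinearMap.det (φ h) = 1) :
    Crit p (Uni b φ) (Subgroup.center H) where
  sylow := isSylowIn_Uni hφ (simple_roots_SL hT)
  ne h := by
    obtain ⟨u, hu, h1⟩ := simple_roots_SL (b := b) hT ⟨0, by omega⟩ ⟨1, by omega⟩ rfl
    rw [center_eq_one_SL (b := b) hφ hT (by omega) u (h hu)
      (pow_eq_one_of_mem (isPGroup_Uni hφ) hu)] at h1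
    simp at h1
  sc T hTU _ hne hsc := by
    obtain ⟨t, ht, h1⟩ := SetLike.not_le_iff_exists.1 hne
    exact sc_SL (p := p) hφ hT hn hTU ht (fun e => h1 (e ▸ one_mem _)) hsc
  gen g hg _ := good_SL hφ hT hn hdet (normalizer_le_Bor (simple_roots_SL hT) hg)

end

include p in
theorem det_eq_one_of_nilpotent [Module.Finite K V] [Module.Free K V] {f : Module.End K V} {m : ℕ}
    (h : (f - 1) ^ m = 0) : LinearMap.det f = 1 :=
  eq_one_of_pow_eq_one (p := p) (k := m) (by rw [← map_pow, pow_eq_one_of_nilpotent h, map_one])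

theorem isSimple_PSL [Fintype K] (hn : 3 ≤ n)
    (S : Sylow p (Matrix.ProjectiveSpecialLinearGroup (Fin n) K)) :
    (groupFusionSystem (S : Subgroup (Matrix.ProjectiveSpecialLinearGroup (Fin n) K))).IsSimple
      p := by
  let φ : Matrix.SpecialLinearGroup (Fin n) K →* Module.End K (Fin n → K) :=
    Matrix.toLinAlgEquiv'.toMonoidHom.comp (slToMat n K)
  have hφ : ∀ g, φ g = Matrix.toLin' g.1 := fun _ => rfl
  refine (crit_SL (b := Pi.basisFun K (Fin n)) (φ := φ) (fun g h e => Subtype.ext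
    (Matrix.toLin'.injective e)) (fun f e he => ?_) hn fun g => ?_).isSimple_quotient S
  · refine ⟨⟨LinearMap.toMatrix' (1 + f.smulRight e), ?_⟩, he, fun x =>
      LinearMap.congr_fun (Matrix.toLin'_toMatrix' (1 + f.smulRight e)) x⟩
    rw [LinearMap.det_toMatrix']
    exact det_eq_one_of_nilpotent (p := p) (m := 2) (LinearMap.ext fun v => by simp [sq, he])
  · rw [hφ, LinearMap.det_toLin', g.2]

end Cfsg.Agent.Lie
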