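import Cfsg.Agent.Lib.Lie.FormCrit
import Cfsg.Agent.Lib.Lie.SL
import Cfsg.Agent.Lib.Mat.Unitary

/-!
The fusion systems of `PSp_{2m}(q)` and `PSU_n(q)` in the defining characteristic are simple.
-/

set_option autoImplicit false
set_option linter.unusedSectionVars false

namespace Cfsg.Agent.Lie

open Cfsg.Agent.Fus Cfsg.Agent.Mat Module Matrix

variable {K V H : Type*} [Field K] [AddCommGroup V] [Module K V] [Group H] [Finite H] {n : ℕ}
  {φ : H →* Module.End K V} {p : ℕ} [Fact p.Prime] [CharP K p]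
  {σ : K →+* K} {B : V →ₗ[K] V →ₛₗ[σ] K}

include p in
theorem exists_rho [Module.Finite K V] (skew : ∀ x y, B y x = -σ (B x y))
    (hex : ∀ f : Module.End K V, LinearMap.det f = 1 → (∀ x y, B (f x) (f y) = B x y) →
      ∃ h, φ h = f) (e w : V) (c : K) (he : B e e = 0) (hw : B w e = 0) (hc : c - σ c = B w w) :
    ∃ h, IsRho φ B e w c h := by
  have hw' : B e w = 0 := by rw [skew, hw, map_zero, neg_zero]
  obtain ⟨h, hh⟩ := hex (1 + (B.flip e).smulRight w + (B.flip w + c • B.flip e).smulRight e)
    (det_eq_one_of_nilpotent (p := p) (m := 3) (LinearMap.ext fun v => by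
      simp [pow_succ, add_assoc, he, hw, hw'])) fun x y => by
      simp only [LinearMap.add_apply, Module.End.one_apply, LinearMap.smulRight_apply,
        LinearMap.flip_apply, LinearMap.smul_apply, smul_eq_mul, map_add, map_smulₛₗ, he, hw, hw',
        skew y e, skew y w, ← hc, RingHom.id_apply, map_mul]
      ring
  exact ⟨h, he, hw, hc, fun x => by simp [hh]⟩

theorem exists_basis_of_gram (hn : 0 < n) (hV : finrank K V = n) {v : Fin n → V}
    (orth : ∀ i j, j ≠ i.rev → B (v i) (v j) = 0) (nondeg : ∀ i, B (v i) (v i.rev) ≠ 0) :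
    ∃ b : Basis (Fin n) K V, ⇑b = v := by
  have : Nonempty (Fin n) := ⟨⟨0, hn⟩⟩
  refine ⟨basisOfLinearIndependentOfCardEqFinrank (b := v) (Fintype.linearIndependent_iff.2
    fun g hg i => ?_) (by simp [hV]), coe_basisOfLinearIndependentOfCardEqFinrank _ _⟩
  have := congrArg (B · (v i.rev)) hg
  simp only [map_sum, LinearMap.sum_apply, map_smul, LinearMap.smul_apply, smul_eq_mul, map_zero,
    LinearMap.zero_apply] at this
  rw [Finset.sum_eq_single i (fun j _ hj => by rw [orth j _ (by simpa using hj.symm), mul_zero])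
    (by simp)] at this
  exact (mul_eq_zero.1 this).resolve_right (nondeg i)

theorem isSimple_PSp [Fintype K] {m : ℕ} (hm : 2 ≤ m) (hex : m = 2 → 3 ≤ Fintype.card K)
    (S : Sylow p (PSp m K)) : (groupFusionSystem (S : Subgroup (PSp m K))).IsSimple p := by
  classical
  let φ : symplecticGroup (Fin m) K →* Module.End K (Fin m ⊕ Fin m → K) :=
    Matrix.toLinAlgEquiv'.toMonoidHom.comp (symplecticGroup (Fin m) K).subtype
  let B : (Fin m ⊕ Fin m → K) →ₗ[K] (Fin m ⊕ Fin m → K) →ₛₗ[RingHom.id K] K :=
    Matrix.toLinearMap₂' K (J (Fin m) K)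
  have hB : ∀ x y, B x y = ∑ i, (x (.inr i) * y (.inl i) - x (.inl i) * y (.inr i)) := fun x y => by
    simp [B, toLinearMap₂'_apply', J, fromBlocks_mulVec, dotProduct, neg_mulVec, sub_eq_add_neg,
      Finset.sum_add_distrib, add_comm]
  have skew : ∀ x y, B y x = -RingHom.id K (B x y) := fun x y => by
    simp only [hB, RingHom.id_apply, ← Finset.sum_neg_distrib]
    exact Finset.sum_congr rfl fun i _ => by ring
  have key : ∀ A : Matrix _ _ K, A ∈ symplecticGroup (Fin m) K ↔
      ∀ x y, B (toLin' A x) (toLin' A y) = B x y := fun A => by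
    rw [SymplecticGroup.mem_iff', ← (toLinearMap₂' (S₁ := K) (S₂ := K) K).injective.eq_iff]
    simp only [LinearMap.ext_iff, B, toLinearMap₂'_apply', toLin'_apply, ← mulVec_mulVec,
      dotProduct_mulVec _ Aᵀ, vecMul_transpose]
  let e : Fin m ⊕ Fin m ≃ Fin (m + m) :=
    (Equiv.sumCongr (Equiv.refl _) Fin.revPerm).trans finSumFinEquiv
  have he : ∀ a, (e a).rev = e a.swap := by
    rintro (i | i) <;> have := i.2 <;> simp [e, Fin.ext_iff] <;> omega
  have D : FormData ((Pi.basisFun K _).reindex e) φ B :=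
    { inj := fun g h e => Subtype.ext (Matrix.toLin'.injective e)
      invol := fun _ => rfl
      skew := skew
      orth := fun i j h => by
        obtain ⟨a, rfl⟩ := e.surjective i
        obtain ⟨c, rfl⟩ := e.surjective j
        rw [he, e.injective.ne_iff] at h
        rcases a with a | a <;> rcases c with c | c <;> simp at h <;> simp [hB, Pi.single_apply, h]
      nondeg := fun i => by
        obtain ⟨a, rfl⟩ := e.surjective i
        rw [he]
        rcases a with a | a <;> simp [hB, Pi.single_apply]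
      val := fun w => ⟨0, by simp [hB, mul_comm]⟩
      isom := fun h => (key h).1 h.2
      rho := exists_rho (p := p) skew fun f _ hf =>
        ⟨⟨LinearMap.toMatrix' f, (key _).2 (by rwa [toLin'_toMatrix'])⟩, toLin'_toMatrix' f⟩
      det := fun h => (LinearMap.det_toLin' h.1).trans (SymplecticGroup.det_eq_one h.2)
      norm := fun i h => by
        have := i.2
        simp only [Fin.ext_iff, Fin.val_rev] at h
        omega }
  refine (D.crit (p := p) (by omega) (.inr ?_)).isSimple_quotient S
  by_cases h : m = 2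
  · obtain ⟨a, ha⟩ : ∃ a, a ∉ ({0, 1} : Finset K) := by
      by_contra! h'
      have := Finset.card_le_card fun l (_ : l ∈ Finset.univ) => h' l
      have := Finset.card_le_two (a := (0 : K)) (b := 1)
      have := hex h
      simp only [Finset.card_univ] at *
      omega
    exact .inr ⟨a, by simpa using ha⟩
  · exact .inl (by omega)

theorem exists_norm_eq' [Finite K] (hσ : ∀ x, σ (σ x) = x) {x : K} (hx : σ x ≠ x) {d : K}
    (hd : σ d = d) : ∃ l, l * σ l = d := by
  by_cases h2 : (2 : K) = 0
  · obtain ⟨a, c, ha, hc, h⟩ := exists_sq_sub_sq hd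
    exact ⟨a + c, by rw [map_add, ha, hc, h]; linear_combination (a * c + c * c) * h2⟩
  · exact exists_norm_eq h2 (sub_ne_zero.2 hx) (by rw [map_sub, hσ, neg_sub]) hd

theorem isSimple_PSU [Fintype K] {q : ℕ} (hK : Fintype.card K = q ^ 2) (hn : 4 ≤ n)
    (S : Sylow p (PSU n K q)) : (groupFusionSystem (S : Subgroup (PSU n K q))).IsSimple p := by
  classical
  obtain ⟨σ, hσ, hσσ, x, hx⟩ := exists_frob hK
  obtain ⟨θ, hθ, hθ'⟩ : ∃ θ, θ ≠ 0 ∧ σ θ = -θ :=
    ⟨σ x - x, sub_ne_zero.2 hx, by rw [map_sub, hσσ, neg_sub]⟩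
  let φ : SU n K q →* Module.End K (Fin n → K) :=
    Matrix.toLinAlgEquiv'.toMonoidHom.comp ((slToMat n K).comp (SU n K q).subtype)
  let B : (Fin n → K) →ₗ[K] (Fin n → K) →ₛₗ[σ] K := LinearMap.mk₂'ₛₗ (RingHom.id K) σ
    (fun u v => θ * ∑ i, u i * σ (v i)) (by simp [add_mul, mul_add, Finset.sum_add_distrib])
    (by simp [Finset.mul_sum, mul_assoc, mul_left_comm])
    (by simp [mul_add, Finset.sum_add_distrib]) (by simp [Finset.mul_sum, mul_left_comm])
  have hB : ∀ u v, B u v = θ * ∑ i, u i * σ (v i) := fun _ _ => rfl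
  have hB' : ∀ u v, B u v = θ * hermForm n K q u v := fun u v => by simp [hB, hermForm, hσ]
  have skew : ∀ u v, B v u = -σ (B u v) := fun u v => by simp [hB, hθ', hσσ, mul_comm]
  obtain ⟨α, hα⟩ := exists_norm_eq' hσσ hx (d := -1) (by simp)
  have hx0 : x ≠ 0 := fun e => hx (by simp [e])
  have hx1 : σ x ≠ 0 := by simpa using hx0
  obtain ⟨β, hβ, hαβ⟩ : ∃ β, β * σ β = -1 ∧ 1 + α * σ β ≠ 0 := by
    refine ⟨α * (x / σ x), ?_, ?_⟩
    · rw [map_mul, map_div₀, hσσ, ← hα]
      field_simp
    · rw [map_mul, map_div₀, hσσ, ← mul_assoc, hα]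
      exact fun e => hx (by field_simp at e; linear_combination -e)
  have hβα : β * σ α + 1 ≠ 0 := fun e => hαβ (by
    simpa [hσσ, add_comm, mul_comm] using congrArg σ e)
  let s : Fin n → K := fun i => if i.rev < i then β else 1
  let t : Fin n → K := fun i => if i.rev < i then 1 else if i < i.rev then α else 0
  let v : Fin n → Fin n → K := fun i => Pi.single i (s i) + Pi.single i.rev (t i)
  have hv : ∀ i u, B (v i) u = θ * (s i * σ (u i) + t i * σ (u i.rev)) := fun i u => by
    simp [hB, v, mul_add, Pi.single_apply]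
  have orth : ∀ i j, j ≠ i.rev → B (v i) (v j) = 0 := fun i j h => by
    rw [hv]
    by_cases e : i = j
    · subst e
      rcases lt_or_gt_of_ne h with e | e <;> simp [v, s, t, h, h.symm, e, e.not_gt, hα, hβ]
    · simp [v, e, h.symm, show i ≠ j.rev from fun e => h (by simp [e])]
  have nondeg : ∀ i, B (v i) (v i.rev) ≠ 0 := fun i => by
    rw [hv]
    rcases lt_trichotomy i i.rev with e | e | e
    · simp [v, s, t, e, e.ne, e.ne', e.not_gt, hθ, hαβ]
    · simp [v, s, t, ← e, hθ]
    · simp [v, s, t, e, e.ne, e.ne', e.not_gt, hθ, hβα]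
  obtain ⟨b, hb⟩ := exists_basis_of_gram (by omega) (by simp) orth nondeg
  have D : FormData b φ B :=
    { inj := fun g h e => Subtype.ext (Subtype.ext (Matrix.toLin'.injective e))
      invol := hσσ
      skew := skew
      orth := hb ▸ orth
      nondeg := hb ▸ nondeg
      val := fun w => ⟨B w w * x / (x - σ x), by
        have h1 : σ (B w w) = -B w w := by conv_rhs => rw [skew, neg_neg]
        have h2 : x - σ x ≠ 0 := sub_ne_zero.2 hx.symm
        rw [map_div₀, map_mul, map_sub, hσσ, h1, ← neg_sub x, div_neg]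
        field_simp⟩
      isom := fun h u w => by rw [hB', hB']; exact congrArg _ (h.2 u w)
      rho := exists_rho (p := p) skew fun f hf hf' =>
        ⟨⟨⟨LinearMap.toMatrix' f, by rwa [LinearMap.det_toMatrix']⟩, fun u w => by
          have := hf' u w
          rw [hB', hB', mul_right_inj' hθ, ← toLin'_toMatrix' f] at this
          exact this⟩, toLin'_toMatrix' f⟩
      det := fun h => (LinearMap.det_toLin' h.1.1).trans h.1.2
      norm := fun _ _ _ => exists_norm_eq' hσσ hx }
  refine (D.crit (p := p) hn (.inl ?_)).isSimple_quotient S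
  by_contra! h
  have h2 : (1 : K) + 1 = 0 := by simpa using h 1
  exact hx (by linear_combination h x - x * h2)

end Cfsg.Agent.Lie
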